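import Cfsg.Agent.BlockBasic.Covering
import Cfsg.Agent.CharInduce.Induce
import Cfsg.Agent.CharInduce.Ops

/-!
Vanishing elements: a regular orbit on linear characters and two vanishing criteria.
-/

namespace Cfsg.Agent.H25.OneVanishing

open Subgroup

/-- Some irreducible character is zero at `g`. -/
def Vanishes {G : Type*} [Group G] (g : G) : Prop :=
  ∃ χ : Cfsg.IrrCharacter G, (χ : G → ℂ) g = 0

theorem Vanishes.lift {G Q : Type*} [Group G] [Group Q] (f : G →* Q) (hf : Function.Surjective f)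
    {g : G} (h : Vanishes (f g)) : Vanishes g :=
  let ⟨χ, hχ⟩ := h
  ⟨⟨fun x => (χ : Q → ℂ) (f x), CharInduce.IsIrr.comp χ.2 f hf⟩, hχ⟩

/-- A coprime faithful action of an abelian group has a regular orbit on linear characters. -/
theorem exists_regular_linear {V A : Type*} [CommGroup V] [Finite V] [CommGroup A] [Finite A]
    (φ : A →* MulAut V) (hφ : Function.Injective φ)
    (hcop : (Nat.card A).Coprime (Nat.card V)) :
    ∃ l : V →* ℂˣ, ∀ a : A, (∀ v, l (φ a v) = l v) → a = 1 := by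
  classical
  let St : (V →* ℂˣ) → Subgroup A := fun x =>
    { carrier := {a | ∀ v, x (φ a v) = x v}
      one_mem' := fun v => by simp
      mul_mem' := fun {a b} ha hb v => by rw [map_mul, MulAut.mul_apply, ha, hb]
      inv_mem' := fun {a} ha v => by
        conv_rhs => rw [show v = φ a (φ a⁻¹ v) by
          rw [← MulAut.mul_apply, ← map_mul, mul_inv_cancel, map_one, MulAut.one_apply]]
        rw [ha] }
  obtain ⟨n, hn, hmin⟩ : ∃ n, (∃ x, Nat.card (St x) = n) ∧
      ∀ x, n ≤ Nat.card (St x) :=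
    have h : ∃ n, ∃ x, Nat.card (St x) = n := ⟨_, 1, rfl⟩
    ⟨Nat.find h, Nat.find_spec h, fun x => Nat.find_min' h ⟨x, rfl⟩⟩
  obtain ⟨x, hx⟩ := hn
  refine ⟨x, fun a ha => ?_⟩
  by_contra ha1
  -- a linear character moved by `a`
  obtain ⟨v₀, hv₀⟩ : ∃ v, φ a v ≠ v := by
    by_contra h
    push Not at h
    exact ha1 (hφ (by rw [map_one]; exact MulEquiv.ext h))
  obtain ⟨w, hw⟩ := CommGroup.exists_apply_ne_one_of_hasEnoughRootsOfUnity V ℂ
    (a := φ a v₀ * v₀⁻¹) (by simpa [mul_inv_eq_one] using hv₀)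
  set S := St x with hS
  have : Fintype S := Fintype.ofFinite S
  set m := Nat.card S with hm
  have hmV : m.Coprime (Nat.card V) := hcop.coprime_dvd_left S.card_subgroup_dvd_card
  have hinj : ∀ (u u' : V →* ℂˣ) (v v' : V), u v ^ m = u' v' ^ m → u v = u' v' := by
    intro u u' v v' h
    have h1 : ∀ (u : V →* ℂˣ) (v : V), u v ^ Nat.card V = 1 := fun u v => by
      rw [← map_pow, pow_card_eq_one', map_one]
    have h2 : (u v * (u' v')⁻¹) ^ m = 1 := by rw [mul_pow, inv_pow, h, mul_inv_cancel]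
    have h3 : (u v * (u' v')⁻¹) ^ Nat.card V = 1 := by rw [mul_pow, inv_pow, h1, h1]; simp
    have := pow_gcd_eq_one.mpr ⟨h2, h3⟩
    rw [hmV.gcd_eq_one, pow_one] at this
    exact mul_inv_eq_one.mp this
  let π : (V →* ℂˣ) → V → ℂˣ := fun u v => ∏ s : S, u (φ (s : A) v)
  have hπS : ∀ u, ∀ s : S, ∀ v, π u (φ (s : A) v) = π u v := fun u s v => by
    refine Fintype.prod_equiv (Equiv.mulRight s) _ _ fun t => ?_
    simp [MulAut.mul_apply]
  let w' : V →* ℂˣ :=
    { toFun := fun v => w v ^ m * (π w v)⁻¹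
      map_one' := by simp [π]
      map_mul' := fun v v' => by
        simp only [π, map_mul, mul_pow, Finset.prod_mul_distrib, mul_inv]
        rw [mul_mul_mul_comm] }
  have hw' : ∀ v, π w' v = 1 := fun v => by
    show ∏ s : S, (w (φ (s : A) v) ^ m * (π w (φ (s : A) v))⁻¹) = 1
    have h1 : ∀ s : S, (π w (φ (s : A) v))⁻¹ = (π w v)⁻¹ := fun s => congrArg _ (hπS w s v)
    rw [Finset.prod_mul_distrib, Finset.prod_pow, Finset.prod_congr rfl fun s _ => h1 s,
      Finset.prod_const, inv_pow, Finset.card_univ, ← Nat.card_eq_fintype_card]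
    exact mul_inv_cancel _
  have hamove : w' (φ a v₀) ≠ w' v₀ := fun h => by
    have h' : w (φ a v₀) ^ m * (π w (φ a v₀))⁻¹ = w v₀ ^ m * (π w v₀)⁻¹ := h
    rw [hπS w ⟨a, ha⟩ v₀] at h'
    have := hinj w w _ _ (mul_right_cancel h')
    exact hw (by rw [map_mul, map_inv, this, mul_inv_cancel])
  have hxm : ∀ v, π (x * w') v = x v ^ m := fun v => by
    show ∏ s : S, (x (φ (s : A) v) * w' (φ (s : A) v)) = _
    rw [Finset.prod_mul_distrib, show ∏ s : S, w' (φ (s : A) v) = 1 from hw' v,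
      Finset.prod_congr rfl fun s _ => s.2 v, Finset.prod_const, mul_one, Finset.card_univ,
      ← Nat.card_eq_fintype_card]
  have hle : St (x * w') ≤ S := fun g hg v => by
    refine hinj x x _ _ ?_
    rw [← hxm, ← hxm]
    refine Finset.prod_congr rfl fun s _ => ?_
    rw [← MulAut.mul_apply, ← map_mul, mul_comm, map_mul, MulAut.mul_apply]
    exact hg _
  have hlt : St (x * w') < S := lt_of_le_of_ne hle fun h => hamove <| by
    have h1 : a ∈ St (x * w') := h.symm ▸ ha
    have := h1 v₀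
    rwa [MonoidHom.mul_apply, MonoidHom.mul_apply, ha v₀, mul_left_cancel_iff] at this
  have := hmin (x * w')
  rw [← hx] at this
  exact absurd (eq_of_le_of_card_ge hlt.le this) hlt.ne

/-- If no conjugate of `g` fixes the linear character `l` of `V`, then `g` is vanishing. -/
theorem vanishes_of_linear {G : Type*} [Group G] [Finite G] {V : Subgroup G} [V.Normal]
    (l : V →* ℂˣ) {g : G}
    (hg : ∀ x : G, ¬ ∀ v : V, l (MulAut.conjNormal (x⁻¹ * g * x) v) = l v) : Vanishes g := by
  classical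
  cases nonempty_fintype G
  have : Fintype V := Fintype.ofFinite V
  obtain ⟨χ, hχ⟩ := BlockBasic.exists_over V ⟨_, CharInduce.isIrrCharacter_hom l⟩
  obtain ⟨φ, -, hφ, -⟩ :=
    CharInduce.exists_clifford_correspondent (G := G) (N := V) χ.2 (CharInduce.isIrrCharacter_hom l) hχ
  refine ⟨χ, ?_⟩
  rw [← hφ]
  refine CharInduce.indFun_eq_zero_of_forall_not_mem _ _ fun x hx => hg x fun v => ?_
  refine Units.ext ?_
  exact congrFun (CharInduce.mem_inertia V |>.1 hx) v

/-- A character nontrivial on the normal subgroup `Z` vanishes at `u` if `uh` is conjugate to `u`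
for every `h ∈ Z`. -/
theorem vanishes_of_translate {G : Type*} [Group G] [Finite G] {Z : Subgroup G} [Z.Normal]
    (hZ : Z ≠ ⊥) {u : G} (hu : ∀ h ∈ Z, IsConj u (u * h)) : Vanishes u := by
  classical
  cases nonempty_fintype G
  have : Fintype Z := Fintype.ofFinite Z
  obtain ⟨⟨z, hz⟩, hz1⟩ := ne_bot_iff_exists_ne_one.mp hZ
  obtain ⟨χ, hne⟩ : ∃ χ : Cfsg.IrrCharacter G, (χ : G → ℂ) z ≠ (χ : G → ℂ) 1 := by
    by_contra h
    push Not at h
    have hc := (CharBasic.isConj_iff_forall_irr z 1).2 h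
    exact hz1 (Subtype.ext (isConj_one_left.mp hc))
  refine ⟨χ, ?_⟩
  obtain ⟨k, ρ, hρ, he⟩ := χ.2
  set S : Module.End ℂ (Fin k → ℂ) := ∑ h : Z, ρ (h : G) with hS
  have hcomm : ∀ g, S * ρ g = ρ g * S := fun g => by
    rw [hS, Finset.sum_mul, Finset.mul_sum]
    refine Fintype.sum_equiv (MulAut.conjNormal g⁻¹).toEquiv _ _ fun n => ?_
    rw [← map_mul, ← map_mul]
    congr 1
    simp only [MulEquiv.toEquiv_eq_coe, EquivLike.coe_coe, MulAut.conjNormal_apply, inv_inv]
    group
  obtain ⟨c, hc⟩ := CharBasic.schur_scalar ρ _ hcomm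
  have hfix : ρ z * S = S := by
    rw [hS, Finset.mul_sum]
    exact Fintype.sum_equiv (Equiv.mulLeft (⟨z, hz⟩ : Z)) _ _ fun n => by simp
  have hc0 : c = 0 := by
    by_contra hc0
    rw [hc, mul_smul_comm, show ρ z * LinearMap.id = ρ z from LinearMap.ext fun _ => rfl] at hfix
    apply hne
    rw [← he, Representation.char_one, CharBasic.character_eq_finrank_iff]
    exact smul_right_injective _ hc0 hfix
  have h0 : LinearMap.trace ℂ _ (ρ u * S) = 0 := by
    rw [hc, hc0, zero_smul, mul_zero, map_zero]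
  rw [hS, Finset.mul_sum, map_sum] at h0
  simp only [← map_mul] at h0
  have hval : ∀ h : Z, LinearMap.trace ℂ (Fin k → ℂ) (ρ (u * h)) = (χ : G → ℂ) u := fun h =>
    ((CharBasic.isConj_iff_forall_irr u (u * h)).1 (hu h h.2) χ).trans (congrFun he.symm _) |>.symm
  simp only [hval, Finset.sum_const, Finset.card_univ, nsmul_eq_mul, mul_eq_zero,
    Nat.cast_eq_zero, Fintype.card_ne_zero, false_or] at h0
  exact h0

end Cfsg.Agent.H25.OneVanishing
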