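import Cfsg.Agent.H25.OneVanishing.Basic
import Cfsg.Agent.Coprime.FpfTools
import Cfsg.Agent.Coprime.Generation

/-!
Vanishing elements over an abelian `p`-section above the `p'`-core.
-/

namespace Cfsg.Agent.H25.OneVanishing

open Subgroup
open scoped IsMulCommutative

variable {X : Type*} [Group X] [Finite X] {p : ℕ} [hp : Fact p.Prime]

theorem coprime_card_of_isPGroup {A R : Subgroup X} (hA : IsPGroup p A)
    (hR : (Nat.card R).Coprime p) : (Nat.card A).Coprime (Nat.card R) := by
  obtain ⟨k, hk⟩ := IsPGroup.iff_card.mp hA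
  rw [hk]
  exact Nat.Coprime.pow_left _ hR.symm

theorem le_norm {Y : Type*} [Group Y] (A N : Subgroup Y) [N.Normal] :
    A ≤ normalizer (N : Set Y) := by
  rw [Subgroup.normalizer_eq_top]; exact le_top

omit [Finite X] hp in
theorem eq_one_of_pow_mem {R : Subgroup X} (hR : (Nat.card R).Coprime p) {r : X} (hr : r ∈ R)
    {k : ℕ} (h : r ^ p ^ k = 1) : r = 1 := by
  have h1 : r ^ Nat.card R = 1 := congrArg Subtype.val (pow_card_eq_one' (G := R) (x := ⟨r, hr⟩))
  have := pow_gcd_eq_one.mpr ⟨h1, h⟩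
  rwa [(hR.pow_right k).gcd_eq_one, pow_one] at this

/-- A `p`-subgroup covering a `p`-section above a normal subgroup. -/
theorem exists_cover {Y : Type*} [Group Y] (f : X →* Y) (T : Subgroup X) (hker : f.ker ≤ T)
    (hT : IsPGroup p (T.map f)) :
    ∃ A : Subgroup X, A ≤ T ∧ IsPGroup p A ∧ A.map f = T.map f ∧ f.ker ⊔ A = T := by
  obtain ⟨P⟩ := (inferInstance : Nonempty (Sylow p T))
  have h1 := Coprime.FpfTools.map_sylow_eq f T hT P
  refine ⟨(P : Subgroup T).map T.subtype, map_subtype_le _, P.isPGroup'.map _, h1, ?_⟩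
  have h2 := congrArg (Subgroup.comap f) h1
  rw [comap_map_eq, comap_map_eq, sup_eq_left.mpr hker] at h2
  rw [sup_comm, h2]

/-- Elements of `T ∖ R` vanish if a complement acts faithfully on a normal abelian `V ≤ R`
modulo which it centralizes `R`. -/
theorem vanishes_of_faithful {V R T : Subgroup X} [V.Normal] [R.Normal] [T.Normal]
    [IsMulCommutative V] (hVR : V ≤ R) (hR : (Nat.card R).Coprime p) {A : Subgroup X}
    [IsMulCommutative A] (hA : IsPGroup p A) (hT : R ⊔ A = T) (hRA : ⁅R, A⁆ ≤ V)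
    (hfaith : ∀ a ∈ A, (∀ v ∈ V, a * v = v * a) → a = 1) {x : X} (hx : x ∈ T) (hxR : x ∉ R) :
    Vanishes x := by
  classical
  have hcop := coprime_card_of_isPGroup hA hR
  let φ : A →* MulAut V := (MulAut.conjNormal (G := X) (H := V)).comp A.subtype
  have hφ : Function.Injective φ := (injective_iff_map_eq_one φ).mpr fun a ha =>
    Subtype.ext (hfaith a a.2 fun v hv => by
      have := congrArg Subtype.val (DFunLike.congr_fun ha ⟨v, hv⟩)
      exact mul_inv_eq_iff_eq_mul.mp (by simpa [φ] using this))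
  obtain ⟨l, hl⟩ := exists_regular_linear φ hφ
    (hcop.coprime_dvd_right (card_dvd_of_le hVR))
  refine vanishes_of_linear l fun t ht => ?_
  set y := t⁻¹ * x * t with hy
  have hyT : y ∈ T := by simpa [hy] using Normal.conj_mem inferInstance x hx t⁻¹
  have hyR : y ∉ R := fun h => hxR (by simpa [hy, mul_assoc] using Normal.conj_mem inferInstance y h t)
  -- the stabiliser of `l`
  let S : Subgroup X :=
    { carrier := {g | ∀ v : V, l (MulAut.conjNormal g v) = l v}
      one_mem' := fun v => by simp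
      mul_mem' := fun {a b} ha hb v => by rw [map_mul, MulAut.mul_apply, ha, hb]
      inv_mem' := fun {a} ha v => by
        conv_rhs => rw [show v = MulAut.conjNormal a (MulAut.conjNormal a⁻¹ v) by
          rw [← MulAut.mul_apply, ← map_mul, mul_inv_cancel, map_one, MulAut.one_apply]]
        rw [ha] }
  have hyS : y ∈ S := ht
  have hVS : V ≤ S := fun w hw v => by
    have : MulAut.conjNormal w v = v := Subtype.ext (by
      have hc : (⟨w, hw⟩ : V) * v = v * ⟨w, hw⟩ := mul_comm _ _
      rw [MulAut.conjNormal_apply, show w * (v : X) = v * w from congrArg Subtype.val hc, mul_inv_cancel_right])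
    rw [this]
  -- the `p`-part of `y`
  have hindex : ¬ p ∣ (A.subgroupOf T).index := by
    intro h
    have hAT : A ≤ T := hT ▸ le_sup_right
    have hc : Nat.card T ∣ Nat.card A * Nat.card R := by
      rw [← hT, sup_comm]; exact Cores.card_sup_dvd A R
    rw [← (A.subgroupOf T).card_mul_index, Nat.card_congr (subgroupOfEquivOfLe hAT).toEquiv,
      Nat.mul_dvd_mul_iff_left Nat.card_pos] at hc
    exact hp.out.coprime_iff_not_dvd.mp hR.symm (h.trans hc)
  obtain ⟨j, m, hpm, hm⟩ := Nat.exists_eq_pow_mul_and_not_dvd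
    (orderOf_pos (⟨y, hyT⟩ : T)).ne' p hp.out.ne_one
  set z : T := (⟨y, hyT⟩ : T) ^ m with hz
  have hzp : IsPGroup p (zpowers z) := by
    obtain ⟨k, -, hk⟩ := (Nat.dvd_prime_pow hp.out).mp (orderOf_dvd_of_pow_eq_one (n := p ^ j)
      (show z ^ p ^ j = 1 by rw [hz, ← pow_mul, mul_comm, ← hm, pow_orderOf_eq_one]))
    exact IsPGroup.of_card (n := k) (by rw [Nat.card_zpowers, hk])
  have hzR : (z : X) ∉ R := by
    intro h
    apply hyR
    have hq : (y : X ⧸ R) ^ m = 1 := by
      rw [← QuotientGroup.mk_pow, QuotientGroup.eq_one_iff]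
      simpa [hz] using h
    have hA' : ∃ k, (y : X ⧸ R) ^ p ^ k = 1 := by
      obtain ⟨a, ha, b, hb, hab⟩ := (mem_sup_of_normal_left (s := R) (t := A)).mp (hT ▸ hyT : y ∈ R ⊔ A)
      obtain ⟨k, hk⟩ := hA ⟨b, hb⟩
      refine ⟨k, ?_⟩
      have hbk : (b : X) ^ p ^ k = 1 := congrArg Subtype.val hk
      rw [← hab, QuotientGroup.mk_mul, (QuotientGroup.eq_one_iff a).mpr ha, one_mul,
        ← QuotientGroup.mk_pow, hbk, QuotientGroup.mk_one]
    obtain ⟨k, hk⟩ := hA'
    have := pow_gcd_eq_one.mpr ⟨hq, hk⟩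
    rw [((hp.out.coprime_iff_not_dvd.mpr hpm).symm.pow_right k).gcd_eq_one, pow_one,
      QuotientGroup.eq_one_iff] at this
    exact this
  obtain ⟨Q, hQ⟩ := hzp.exists_le_sylow
  let P : Sylow p T := (show IsPGroup p (A.subgroupOf T) from hA.comap_subtype).toSylow hindex
  obtain ⟨g, hg⟩ := MulAction.exists_smul_eq T P Q
  have hzQ : z ∈ (Q : Subgroup T) := hQ (mem_zpowers z)
  rw [← hg, Sylow.coe_subgroup_smul, Subgroup.mem_pointwise_smul_iff_inv_smul_mem] at hzQ
  set a : X := (g : X)⁻¹ * (z : X) * g with ha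
  have haA : a ∈ A := by
    have : ((g⁻¹ * z * g : T)) ∈ A.subgroupOf T := by simpa [P, mul_assoc] using hzQ
    simpa [mem_subgroupOf, ha] using this
  -- write the conjugating element as `v c b`
  obtain ⟨r, hr, b, hb, hrb⟩ := (mem_sup_of_normal_left (s := R) (t := A)).mp (hT ▸ g.2 : (g : X) ∈ R ⊔ A)
  have hsolv : Group.IsSolvable A ∨ Group.IsSolvable R :=
    Or.inl (Coprime.isSolvable_of_isMulCommutative)
  have hr' : r ∈ V ⊔ (R ⊓ centralizer (A : Set X)) := by
    refine sup_le_sup_right hRA _ ?_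
    rw [Coprime.commutator_sup_centralizer (le_norm _ _) hcop hsolv]
    exact hr
  obtain ⟨v, hv, c, hc, hvc⟩ := (mem_sup_of_normal_left (s := V)).mp hr'
  have hca : c * a * c⁻¹ = a := by
    rw [mem_inf, mem_centralizer_iff] at hc
    rw [← hc.2 a haA, mul_inv_cancel_right]
  have hba : b * a * b⁻¹ = a := by
    have hcomm : (⟨b, hb⟩ : A) * ⟨a, haA⟩ = ⟨a, haA⟩ * ⟨b, hb⟩ := mul_comm _ _
    rw [show b * a = a * b from congrArg Subtype.val hcomm, mul_inv_cancel_right]
  have hzv : (z : X) = v * a * v⁻¹ := by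
    calc (z : X) = (g : X) * a * (g : X)⁻¹ := by rw [ha]; group
      _ = v * (c * (b * a * b⁻¹) * c⁻¹) * v⁻¹ := by rw [← hrb, ← hvc]; group
      _ = _ := by rw [hba, hca]
  have haS : a ∈ S := by
    have hzS : (z : X) ∈ S := by rw [hz, SubgroupClass.coe_pow]; exact pow_mem hyS m
    have := mul_mem (mul_mem (inv_mem (hVS hv)) hzS) (hVS hv)
    rwa [hzv, show v⁻¹ * (v * a * v⁻¹) * v = a by group] at this
  have ha1 : a = 1 := congrArg Subtype.val (hl ⟨a, haA⟩ haS)
  exact hzR (by rw [hzv, ha1, mul_one, mul_inv_cancel]; exact R.one_mem)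

/-- Elements of a chief `p`-section directly above a normal `p'`-subgroup vanish when `O_p = 1`. -/
theorem vanishes_of_chief {Y : Type*} [Group Y] [Group.IsSolvable X]
    (hX : Cfsg.pCore p X = ⊥) (f : X →* Y) (hR : (Nat.card f.ker).Coprime p) (M : Subgroup X)
    [M.Normal] (hMR : f.ker < M) (hMp : IsPGroup p (M.map f)) (hMab : IsMulCommutative (M.map f))
    (hmin : ∀ L : Subgroup X, L.Normal → f.ker ≤ L → L ≤ M → L = f.ker ∨ L = M) {x : X}
    (hx : x ∈ M) (hxR : x ∉ f.ker) : Vanishes x := by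
  classical
  obtain ⟨A, hAM, hA, hAmap, hsup⟩ := exists_cover f M hMR.le hMp
  set R := f.ker with hRdef
  have hcop := coprime_card_of_isPGroup hA hR
  have hAR : A ⊓ R = ⊥ := Coprime.inf_eq_bot hcop
  have hinj : ∀ a ∈ A, ∀ b ∈ A, f a = f b → a = b := fun a ha b hb h => by
    have : a * b⁻¹ ∈ A ⊓ R := mem_inf.mpr ⟨mul_mem ha (inv_mem hb), by
      rw [hRdef, MonoidHom.mem_ker, map_mul, map_inv, h, mul_inv_cancel]⟩
    rw [hAR, mem_bot] at this
    exact mul_inv_eq_one.mp this
  have hAab : IsMulCommutative A := ⟨⟨fun a b => Subtype.ext (hinj _ (a * b).2 _ (b * a).2 (by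
    rw [Subgroup.coe_mul, Subgroup.coe_mul, map_mul, map_mul]
    exact congrArg Subtype.val
      (mul_comm (⟨f a, mem_map_of_mem f (hAM a.2)⟩ : M.map f) ⟨f b, mem_map_of_mem f (hAM b.2)⟩)))⟩⟩
  have hne : ⁅R, A⁆ ≠ ⊥ := by
    intro h
    have hcen := (commutator_eq_bot_iff_le_centralizer.mp h)
    have hnorm : M ≤ normalizer (A : Set X) := by
      rw [← hsup]
      exact sup_le (hcen.trans (centralizer_le_normalizer _)) le_normalizer
    have : (A.subgroupOf M).Normal := normal_subgroupOf_of_le_normalizer hnorm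
    have hle : A ≤ ⊥ := hX ▸ Cores.le_pCore_of_isSubnormal
      (IsSubnormal.trans hAM (Normal.isSubnormal this) (Normal.isSubnormal inferInstance)) hA
    rw [le_bot_iff.mp hle, sup_bot_eq] at hsup
    exact hMR.ne hsup
  obtain ⟨L, hL, hLmax⟩ := Set.Finite.exists_maximal
    (s := {L : Subgroup X | L.Normal ∧ L ≤ R ∧ ¬ ⁅R, A⁆ ≤ L}) (Set.toFinite _)
    ⟨⊥, inferInstance, bot_le, fun h => hne (le_bot_iff.mp h)⟩
  obtain ⟨hLn, hLR, hLA⟩ := hL
  let g := QuotientGroup.mk' L
  have hg : Function.Surjective g := QuotientGroup.mk'_surjective L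
  have hkg : g.ker = L := QuotientGroup.ker_mk' L
  have hRn : (R.map g).Normal := Normal.map inferInstance g hg
  have hMn : (M.map g).Normal := Normal.map inferInstance g hg
  have : Group.IsSolvable (X ⧸ L) := Group.isSolvable_of_surjective hg
  have hcomR : (R.map g).comap g = R := by rw [comap_map_eq, hkg, sup_eq_left.mpr hLR]
  have hcomM : (M.map g).comap g = M := by
    rw [comap_map_eq, hkg, sup_eq_left.mpr (hLR.trans hMR.le)]
  have hmap : ⁅R.map g, A.map g⁆ = ⁅R, A⁆.map g := (map_commutator R A g).symm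
  set C := ⁅R.map g, A.map g⁆ with hC
  let V : Subgroup (X ⧸ L) := normalClosure (C : Set (X ⧸ L))
  have hCV : C ≤ V := le_normalClosure
  have hCR : C ≤ R.map g := commutator_le_left _ _
  have hVR : V ≤ R.map g := normalClosure_le_normal hCR
  have hC1 : C ≠ ⊥ := fun h => hLA (by rwa [hmap, Subgroup.map_eq_bot_iff, hkg] at h)
  have hVmin : ∀ W : Subgroup (X ⧸ L), W.Normal → W ≤ R.map g → W ≠ ⊥ → V ≤ W := by
    intro W hW hWR hW1
    refine normalClosure_le_normal (show C ≤ W from ?_)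
    rw [hmap, map_le_iff_le_comap]
    by_contra h
    have h1 : W.comap g ∈ {L : Subgroup X | L.Normal ∧ L ≤ R ∧ ¬ ⁅R, A⁆ ≤ L} :=
      ⟨hW.comap g, hcomR ▸ comap_mono hWR, h⟩
    have hLW : L ≤ W.comap g := hkg.ge.trans (ker_le_comap g W)
    apply hW1
    rw [← map_comap_eq_self_of_surjective hg W, le_antisymm (hLmax h1 hLW) hLW, Subgroup.map_eq_bot_iff, hkg]
  have hV1 : V ≠ ⊥ := fun h => hC1 (le_bot_iff.mp (h ▸ hCV))
  have : IsMulCommutative V := by
    rw [← le_centralizer_iff_isMulCommutative, ← commutator_eq_bot_iff_le_centralizer]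
    by_contra h
    have hlt := Group.IsSolvable.commutator_lt_of_ne_bot hV1
    exact hlt.not_ge (hVmin _ inferInstance (hlt.le.trans hVR) h)
  have : IsMulCommutative (A.map g) := ⟨⟨fun a b => by
    obtain ⟨_, a, ha, rfl⟩ := a
    obtain ⟨_, b, hb, rfl⟩ := b
    refine Subtype.ext ?_
    show g a * g b = g b * g a
    rw [← map_mul, ← map_mul]
    exact congrArg g (congrArg Subtype.val (mul_comm (⟨a, ha⟩ : A) ⟨b, hb⟩))⟩⟩
  have hRg : (Nat.card (R.map g)).Coprime p := hR.coprime_dvd_left (card_map_dvd R g)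
  have hfaith : ∀ a ∈ A.map g, (∀ v ∈ V, a * v = v * a) → a = 1 := by
    let D : Subgroup X := (M.map g ⊓ centralizer (V : Set (X ⧸ L))).comap g
    have hDn : D.Normal := Normal.comap inferInstance g
    have hDM : D ≤ M := hcomM ▸ comap_mono inf_le_left
    rcases hmin (D ⊔ R) inferInstance le_sup_right (sup_le hDM hMR.le) with hD | hD
    · rintro _ ⟨a, ha, rfl⟩ hcent
      have haD : a ∈ D := ⟨mem_map_of_mem g (hAM ha), mem_centralizer_iff.mpr fun v hv => (hcent v hv).symm⟩
      have : a ∈ A ⊓ R := ⟨ha, hD ▸ mem_sup_left haD⟩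
      rw [hAR, mem_bot] at this
      rw [this, map_one]
    · exfalso
      have hAD : A ≤ D := by
        intro a ha
        obtain ⟨d, hd, r, hr, hdr⟩ := (mem_sup_of_normal_left (s := D)).mp (hD.symm ▸ hAM ha : a ∈ D ⊔ R)
        obtain ⟨k, hk⟩ := hA ⟨a, ha⟩
        have hq : ((a : X) : X ⧸ D) = (r : X ⧸ D) := by
          rw [← hdr, QuotientGroup.mk_mul, (QuotientGroup.eq_one_iff d).mpr hd, one_mul]
        have h1 : (a : X ⧸ D) ^ p ^ k = 1 := by
          have hak : (a : X) ^ p ^ k = 1 := congrArg Subtype.val hk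
          rw [← QuotientGroup.mk_pow, hak, QuotientGroup.mk_one]
        have h2 : (a : X ⧸ D) ^ Nat.card R = 1 := by
          rw [hq, ← QuotientGroup.mk_pow, show r ^ Nat.card R = 1 from
            congrArg Subtype.val (pow_card_eq_one' (G := R) (x := ⟨r, hr⟩)), QuotientGroup.mk_one]
        have := pow_gcd_eq_one.mpr ⟨h2, h1⟩
        rwa [(hR.pow_right k).gcd_eq_one, pow_one, QuotientGroup.eq_one_iff] at this
      apply hC1
      have hcopg : (Nat.card (A.map g)).Coprime (Nat.card (R.map g)) :=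
        coprime_card_of_isPGroup (hA.map g) hRg
      rw [hC, ← Coprime.commutator_commutator_eq (le_norm _ _) hcopg
        (Or.inl Coprime.isSolvable_of_isMulCommutative), commutator_eq_bot_iff_le_centralizer]
      refine le_trans hCV (le_centralizer_iff.mp ?_)
      exact (map_le_iff_le_comap.mpr hAD).trans inf_le_right
  refine Vanishes.lift g hg (vanishes_of_faithful hVR hRg (hA.map g)
    (T := M.map g) (by rw [← Subgroup.map_sup, hsup]) hCV hfaith (mem_map_of_mem g hx) ?_)
  rwa [← mem_comap, hcomR]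

end Cfsg.Agent.H25.OneVanishing
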