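import Cfsg.Agent.H25.OneVanishing.Chief
import Cfsg.Agent.Cores.Constrained

/-!
When all vanishing `p`-singular elements have one order, the Sylow subgroup over `O_p` has order
at most `p`.
-/

namespace Cfsg.Agent.H25.OneVanishing

open Subgroup
open scoped IsMulCommutative

variable {X : Type*} [Group X] [Finite X] {p : ℕ} [hp : Fact p.Prime]
variable {H : Type*} [Group H]

/-- `x` has `p`-power order. -/
def IsPElem {Y : Type*} [Group Y] (p : ℕ) (x : Y) : Prop := ∃ k : ℕ, x ^ p ^ k = 1

/-- The standing assumption on the group. -/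
structure Rigid (p : ℕ) (X : Type*) [Group X] : Prop where
  all_pElem : ∀ x : X, IsPElem p x → x ≠ 1 → Vanishes x →
    ∀ y : X, Vanishes y → p ∣ orderOf y → IsPElem p y
  no_pow : ∀ y : X, IsPElem p y → y ^ p ≠ 1 → Vanishes y → Vanishes (y ^ p) → False

theorem dvd_orderOf_of_map {Y Z : Type*} [Group Y] [Group Z] [Finite Y] (f : Y →* Z) {x : Y}
    {k : ℕ} (hx : f x ^ p ^ k = 1) (h1 : f x ≠ 1) : p ∣ orderOf x := by
  by_contra h
  have := pow_gcd_eq_one.mpr ⟨show f x ^ orderOf x = 1 by rw [← map_pow, pow_orderOf_eq_one, map_one], hx⟩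
  rw [((hp.out.coprime_iff_not_dvd.mpr h).symm.pow_right k).gcd_eq_one, pow_one] at this
  exact h1 this

/-- An abelian section all whose nontrivial elements lift to vanishing `p`-singular elements has
order at most `p`. -/
theorem card_le_of_vanishes (f : X →* H) (hR : (Nat.card f.ker).Coprime p) (hne : f.ker ≠ ⊥)
    (hrig : Rigid p X)
    (hall : ∀ y : X, Vanishes y → p ∣ orderOf y → IsPElem p y)
    (U : Subgroup H) [IsMulCommutative U] (hU : IsPGroup p U) (hUf : U ≤ f.range)
    (hvan : ∀ x : X, f x ∈ U → f x ≠ 1 → Vanishes x) : Nat.card U ≤ p := by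
  classical
  obtain ⟨A, hAT, hA, hAmap, -⟩ := exists_cover f (U.comap f) (ker_le_comap f U)
    (hU.to_le (map_comap_le f U))
  rw [map_comap_eq, inf_eq_right.mpr hUf] at hAmap
  set R := f.ker with hRdef
  have hcop := coprime_card_of_isPGroup hA hR
  have hAR : A ⊓ R = ⊥ := Coprime.inf_eq_bot hcop
  have hker : ∀ a ∈ A, f a = 1 → a = 1 := fun a ha h => by
    have : a ∈ A ⊓ R := mem_inf.mpr ⟨ha, h⟩
    rwa [hAR, mem_bot] at this
  have hmem : ∀ a ∈ A, f a ∈ U := fun a ha => hAT ha
  have hvA : ∀ a ∈ A, a ≠ 1 → Vanishes a := fun a ha h1 =>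
    hvan a (hmem a ha) fun h => h1 (hker a ha h)
  have hpA : ∀ a ∈ A, IsPElem p a := fun a ha => by
    obtain ⟨k, hk⟩ := hA ⟨a, ha⟩
    exact ⟨k, congrArg Subtype.val hk⟩
  have hexp : ∀ a ∈ A, a ^ p = 1 := fun a ha => by
    by_contra h
    exact hrig.no_pow a (hpA a ha) h (hvA a ha fun h1 => h (by rw [h1, one_pow]))
      (hvA _ (pow_mem ha p) h)
  have hAab : IsMulCommutative A := ⟨⟨fun a b => by
    have hc : f a * f b = f b * f a := congrArg Subtype.val
      (mul_comm (⟨f a, hmem a a.2⟩ : U) ⟨f b, hmem b b.2⟩)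
    have h1 := hker _ ((a * b) * (b * a)⁻¹).2 (by
      simp only [Subgroup.coe_mul, Subgroup.coe_inv, map_mul, map_inv, hc, mul_inv_cancel])
    exact mul_inv_eq_one.mp (Subtype.ext h1)⟩⟩
  have hcard : Nat.card U = Nat.card A := by
    rw [← hAmap]
    refine (Nat.card_congr (Equiv.ofBijective
      (fun a : A => (⟨f a, mem_map_of_mem f a.2⟩ : A.map f)) ⟨fun a b h => ?_, ?_⟩)).symm
    · have h' : f a = f b := congrArg Subtype.val h
      exact mul_inv_eq_one.mp (Subtype.ext (hker _ (a * b⁻¹).2 (by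
        simp [h'])))
    · rintro ⟨_, a, ha, rfl⟩
      exact ⟨⟨a, ha⟩, rfl⟩
  rw [hcard]
  by_contra hgt
  have hnc : ¬ IsCyclic A := by
    intro hc
    obtain ⟨a, ha⟩ := hc.exists_generator
    apply hgt
    rw [← orderOf_eq_card_of_forall_mem_zpowers ha]
    exact Nat.le_of_dvd hp.out.pos (orderOf_dvd_of_pow_eq_one (Subtype.ext (hexp a a.2)))
  apply hne
  rw [← le_bot_iff]
  refine Coprime.le_of_centralizer_noncyclic_le hnc (le_norm _ _) hcop fun a ha h1 r hr => ?_
  rw [mem_inf, mem_centralizer_singleton_iff] at hr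
  have hcomm : Commute a r := hr.2.symm
  have hfr : f (a * r) = f a := by rw [map_mul, show f r = 1 from hr.1, mul_one]
  obtain ⟨k, hk⟩ := hpA a ha
  have hfa : f a ≠ 1 := fun h => h1 (hker a ha h)
  obtain ⟨j, hj⟩ := hall (a * r) (hvan _ (hfr ▸ hmem a ha) (hfr ▸ hfa))
    (dvd_orderOf_of_map f (k := k) (by rw [hfr, ← map_pow, hk, map_one]) (hfr ▸ hfa))
  rw [mem_bot]
  refine eq_one_of_pow_mem hR hr.1 (k := k + j) ?_
  have : (a * r) ^ p ^ (k + j) = 1 := by rw [pow_add, mul_comm (p ^ k), pow_mul, hj, one_pow]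
  rwa [hcomm.mul_pow, pow_add, pow_mul, hk, one_pow, one_mul, ← pow_add] at this

/-- **The core**: a solvable group with trivial `O_p` satisfying `Rigid` has order not divisible
by `p²`. -/
theorem not_sq_dvd [Group.IsSolvable X] (hX : Cfsg.pCore p X = ⊥) (hrig : Rigid p X) :
    ¬ p ^ 2 ∣ Nat.card X := by
  classical
  intro hsq
  set R := Cfsg.pPrimeCore p X with hRdef
  let f := QuotientGroup.mk' R
  have hf : Function.Surjective f := QuotientGroup.mk'_surjective R
  have hkf : f.ker = R := QuotientGroup.ker_mk' R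
  have hR : (Nat.card f.ker).Coprime p := by rw [hkf]; exact Cores.coprime_card_pPrimeCore
  have : Group.IsSolvable (X ⧸ R) := Group.isSolvable_of_surjective hf
  set N := Cfsg.pCore p (X ⧸ R) with hN
  have hNp : IsPGroup p N := Cores.pCore_isPGroup
  have hcH : Cfsg.pPrimeCore p (X ⧸ R) = ⊥ := Cores.pPrimeCore_quotient_pPrimeCore
  have hCN : centralizer (N : Set (X ⧸ R)) ≤ N :=
    Cores.centralizer_pCore_le Cores.isPSolvable_of_isSolvable hcH
  have hNne : N ≠ ⊥ := by
    intro h
    rw [h] at hCN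
    have htop : centralizer ((⊥ : Subgroup (X ⧸ R)) : Set (X ⧸ R)) = ⊤ :=
      eq_top_iff.mpr fun x _ => mem_centralizer_iff.mpr fun y hy => by
        rw [SetLike.mem_coe, mem_bot] at hy; rw [hy, one_mul, mul_one]
    rw [htop, le_bot_iff] at hCN
    have h1 : Nat.card (X ⧸ R) = 1 := by rw [← card_top, hCN, card_bot]
    have h2 := R.card_mul_index
    rw [index, h1, mul_one] at h2
    refine hp.out.coprime_iff_not_dvd.mp (hkf ▸ hR).symm ?_
    rw [h2]
    exact (dvd_pow_self p two_ne_zero).trans hsq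
  have hne : f.ker ≠ ⊥ := by
    intro h
    apply hNne
    have hinj : Function.Injective f := (MonoidHom.ker_eq_bot_iff f).mp h
    have := Cores.pCore_map_mulEquiv (p := p) (MulEquiv.ofBijective f ⟨hinj, hf⟩)
    rw [hX, Subgroup.map_bot] at this
    exact this.symm
  set M₀ := N.comap f with hM₀
  have hM₀n : M₀.Normal := Normal.comap inferInstance f
  -- facts about minimal normal subgroups above `R`
  have hchief : ∀ K : Subgroup X, K.Normal → f.ker < K → K ≤ M₀ →
      ∃ M : Subgroup X, M.Normal ∧ f.ker < M ∧ M ≤ K ∧ ∀ x ∈ M, x ∉ f.ker → Vanishes x := by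
    intro K hKn hKR hKM
    obtain ⟨M, ⟨hMn, hMR, hMK⟩, hMmin⟩ := Set.Finite.exists_minimal
      (s := {L : Subgroup X | L.Normal ∧ f.ker < L ∧ L ≤ K}) (Set.toFinite _) ⟨K, hKn, hKR, le_rfl⟩
    have hmin : ∀ L : Subgroup X, L.Normal → f.ker ≤ L → L ≤ M → L = f.ker ∨ L = M := by
      intro L hL hRL hLM
      rcases eq_or_lt_of_le hRL with h | h
      · exact Or.inl h.symm
      · exact Or.inr (le_antisymm hLM (hMmin ⟨hL, h, hLM.trans hMK⟩ hLM))
    have hMp : IsPGroup p (M.map f) :=
      hNp.to_le (map_le_iff_le_comap.mpr (hMK.trans hKM))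
    have hMab : IsMulCommutative (M.map f) := by
      have hMne : M.map f ≠ ⊥ := fun h => hMR.not_ge (by rwa [Subgroup.map_eq_bot_iff] at h)
      have hMn' : (M.map f).Normal := Normal.map hMn f hf
      rw [← le_centralizer_iff_isMulCommutative, ← commutator_eq_bot_iff_le_centralizer]
      have hlt := Group.IsSolvable.commutator_lt_of_ne_bot hMne
      rcases hmin (Subgroup.comap f ⁅M.map f, M.map f⁆) (Normal.comap inferInstance f)
        (ker_le_comap f _) (by
          refine le_trans (comap_mono hlt.le) (le_of_eq ?_)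
          rw [comap_map_eq, sup_eq_left.mpr hMR.le]) with h | h
      · rw [← map_comap_eq_self_of_surjective hf ⁅M.map f, M.map f⁆, h, Subgroup.map_eq_bot_iff]
      · exfalso
        refine hlt.not_ge ?_
        conv_lhs => rw [← h]
        exact map_comap_le f _
    exact ⟨M, hMn, hMR, hMK, fun x hx hxR => vanishes_of_chief hX f hR M hMR hMp hMab hmin hx hxR⟩
  have hM₀R : f.ker < M₀ := lt_of_le_of_ne (ker_le_comap f N) fun h => hNne (by
    rw [← map_comap_eq_self_of_surjective hf N, ← hM₀, ← h, Subgroup.map_eq_bot_iff])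
  have hall : ∀ y : X, Vanishes y → p ∣ orderOf y → IsPElem p y := by
    obtain ⟨M, hMn, hMR, hMK, hv⟩ := hchief M₀ hM₀n hM₀R le_rfl
    obtain ⟨A, hAM, hA, -, hsup⟩ := exists_cover f M hMR.le (hNp.to_le (map_le_iff_le_comap.mpr hMK))
    obtain ⟨a, ha, haR⟩ : ∃ a ∈ A, a ∉ f.ker := by
      by_contra h
      push Not at h
      exact hMR.ne (by rw [← hsup, sup_eq_left.mpr h])
    obtain ⟨k, hk⟩ := hA ⟨a, ha⟩
    exact hrig.all_pElem a ⟨k, congrArg Subtype.val hk⟩ (fun h => haR (h ▸ one_mem _))
      (hv a (hAM ha) haR)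
  -- `N` acts faithfully on the abelianized kernel
  let R' : Subgroup X := ⁅f.ker, f.ker⁆
  let g := QuotientGroup.mk' R'
  have hg : Function.Surjective g := QuotientGroup.mk'_surjective R'
  have hkg : g.ker = R' := QuotientGroup.ker_mk' R'
  have hR'lt : R' < f.ker := Group.IsSolvable.commutator_lt_of_ne_bot hne
  set W := f.ker.map g with hW
  have hWn : W.Normal := Normal.map inferInstance g hg
  have hcomW : W.comap g = f.ker := by rw [hW, comap_map_eq, hkg, sup_eq_left.mpr hR'lt.le]
  have hWab : IsMulCommutative W := by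
    rw [← le_centralizer_iff_isMulCommutative, ← commutator_eq_bot_iff_le_centralizer, hW,
      ← map_commutator, Subgroup.map_eq_bot_iff, hkg]
  have hWp : (Nat.card W).Coprime p := hR.coprime_dvd_left (card_map_dvd f.ker g)
  set K := M₀ ⊓ (centralizer (W : Set (X ⧸ R'))).comap g with hK
  have hKR : K ≤ f.ker := by
    have hle : f.ker ≤ K := le_inf (ker_le_comap f N)
      (map_le_iff_le_comap.mp (le_centralizer_iff_isMulCommutative.mpr hWab))
    by_contra h
    have hKn : K.Normal :=
      Subgroup.normal_inf_normal M₀ ((centralizer (W : Set (X ⧸ R'))).comap g)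
    obtain ⟨M, hMn, hMR, hMK, hv⟩ := hchief K hKn (lt_of_le_not_ge hle h) inf_le_left
    obtain ⟨A, hAM, hA, -, hsup⟩ := exists_cover f M hMR.le
      (hNp.to_le (map_le_iff_le_comap.mpr (hMK.trans inf_le_left)))
    obtain ⟨a, ha, haR⟩ : ∃ a ∈ A, a ∉ f.ker := by
      by_contra h
      push Not at h
      exact hMR.ne (by rw [← hsup, sup_eq_left.mpr h])
    obtain ⟨k, hk⟩ := hA ⟨a, ha⟩
    have hak : a ^ p ^ k = 1 := congrArg Subtype.val hk
    have hfix : ∀ r ∈ f.ker, a * r = r * a → r = 1 := by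
      intro r hr hc
      have hfr : f (a * r) = f a := by rw [map_mul, show f r = 1 from hr, mul_one]
      have harR : a * r ∉ f.ker := fun h' => haR (by
        rw [MonoidHom.mem_ker] at h' ⊢; rwa [hfr] at h')
      obtain ⟨j, hj⟩ := hall (a * r) (hv _ (M.mul_mem (hAM ha) (hMR.le hr)) harR)
        (dvd_orderOf_of_map f (k := k) (by rw [hfr, ← map_pow, hak, map_one])
          (fun h' => haR (by rwa [hfr] at h')))
      refine eq_one_of_pow_mem hR hr (k := k + j) ?_
      have : (a * r) ^ p ^ (k + j) = 1 := by rw [pow_add, mul_comm (p ^ k), pow_mul, hj, one_pow]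
      rwa [(Commute.mul_pow hc), pow_add, pow_mul, hak, one_pow, one_mul, ← pow_add]
        at this
    apply hR'lt.not_ge
    rw [← hkg, ← Subgroup.map_eq_bot_iff, ← hW, eq_bot_iff]
    intro z hz
    rw [mem_bot]
    exact Coprime.FpfTools.fix_map g (fun u hu => Normal.conj_mem inferInstance u hu a) hfix hz
      (mem_centralizer_iff.mp (hMK (hAM ha)).2 z hz).symm
  -- every element over an abelian normal subgroup of `H` inside `N` vanishes
  have habvan : ∀ U : Subgroup (X ⧸ R), U.Normal → IsMulCommutative U → U ≤ N →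
      ∀ x : X, f x ∈ U → f x ≠ 1 → Vanishes x := by
    intro U hUn hUab hUN x hxU hx1
    obtain ⟨A, hAT, hA, -, hsup⟩ := exists_cover f (U.comap f) (ker_le_comap f U)
      (hNp.to_le ((map_comap_le f U).trans hUN))
    have hTn : ((U.comap f).map g).Normal := Normal.map (Normal.comap hUn f) g hg
    have hAR : A ⊓ f.ker = ⊥ := Coprime.inf_eq_bot (coprime_card_of_isPGroup hA hR)
    have : IsMulCommutative (A.map g) := ⟨⟨fun a b => by
      obtain ⟨_, a, ha, rfl⟩ := a
      obtain ⟨_, b, hb, rfl⟩ := b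
      refine Subtype.ext ?_
      show g a * g b = g b * g a
      rw [← map_mul, ← map_mul]
      refine congrArg g (mul_inv_eq_one.mp ?_)
      have : a * b * (b * a)⁻¹ ∈ A ⊓ f.ker := mem_inf.mpr
        ⟨mul_mem (mul_mem ha hb) (inv_mem (mul_mem hb ha)), by
          have hc : f a * f b = f b * f a := congrArg Subtype.val
            (mul_comm (⟨f a, hAT ha⟩ : U) ⟨f b, hAT hb⟩)
          simp only [MonoidHom.mem_ker, map_mul, map_inv, hc, mul_inv_cancel]⟩
      rwa [hAR, mem_bot] at this⟩⟩
    refine Vanishes.lift g hg (vanishes_of_faithful (V := W) (R := W) le_rfl hWp (hA.map g)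
      (T := (U.comap f).map g) (by rw [hW, ← Subgroup.map_sup, hsup])
      (commutator_le_left _ _) ?_ (mem_map_of_mem g hxU) ?_)
    · rintro _ ⟨a, ha, rfl⟩ hcent
      have haK : a ∈ K := mem_inf.mpr ⟨hUN (hAT ha),
        mem_centralizer_iff.mpr fun v hv => (hcent v hv).symm⟩
      have : a ∈ A ⊓ f.ker := mem_inf.mpr ⟨ha, hKR haK⟩
      rw [hAR, mem_bot] at this
      rw [this, map_one]
    · intro h
      apply hx1
      rw [← mem_comap, hcomW] at h
      exact h
  have hcard : ∀ U : Subgroup (X ⧸ R), IsMulCommutative U → U ≤ N →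
      (∀ x : X, f x ∈ U → f x ≠ 1 → Vanishes x) → Nat.card U ≤ p := fun U hUab hUN hv =>
    card_le_of_vanishes f hR hne hrig hall U (hNp.to_le hUN)
      (by rw [MonoidHom.range_eq_top.mpr hf]; exact le_top) hv
  -- the centre of `N`
  set Z := (center N).map N.subtype with hZ
  have hZN : Z ≤ N := map_subtype_le _
  have hZn : Z.Normal := ConjAct.normal_of_characteristic_of_normal
  have hZab : IsMulCommutative Z := ⟨⟨fun a b => by
    obtain ⟨_, a, ha, rfl⟩ := a
    obtain ⟨_, b, hb, rfl⟩ := b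
    refine Subtype.ext ?_
    show (a : X ⧸ R) * b = b * a
    exact congrArg Subtype.val (mem_center_iff.mp hb a)⟩⟩
  have hNnt : Nontrivial N := (nontrivial_iff_ne_bot N).mpr hNne
  have hZne : Z ≠ ⊥ := by
    intro h
    rw [hZ, Subgroup.map_eq_bot_iff, ker_subtype, le_bot_iff] at h
    have := hNp.center_nontrivial
    exact (nontrivial_iff_ne_bot _).mp this h
  have hZcard : Nat.card Z = p := by
    refine le_antisymm (hcard Z hZab hZN (habvan Z hZn hZab hZN)) (Nat.le_of_dvd Nat.card_pos ?_)
    obtain ⟨k, hk⟩ := IsPGroup.iff_card.mp (hNp.to_le hZN)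
    rw [hk]
    refine dvd_pow_self p fun h0 => hZne (eq_bot_of_card_eq _ ?_)
    rw [hk, h0, pow_zero]
  have hNab : center N = ⊤ := by
    by_contra hc
    have : Nontrivial (N ⧸ center N) := QuotientGroup.nontrivial_iff.mpr hc
    have := (hNp.to_quotient (center N)).center_nontrivial
    obtain ⟨⟨q, hq⟩, hq1⟩ := exists_ne (1 : center (N ⧸ center N))
    obtain ⟨u, rfl⟩ := QuotientGroup.mk'_surjective (center N) q
    set S := (center (N ⧸ center N)).comap (QuotientGroup.mk' (center N)) with hS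
    have huS : u ∈ S := hq
    have huZ : u ∉ center N := fun h => hq1 (Subtype.ext ((QuotientGroup.eq_one_iff u).mpr h))
    -- elements of the second centre outside the centre vanish
    have hvS : ∀ v ∈ S, v ∉ center N → Vanishes (v : X ⧸ R) := by
      intro v hv hvZ
      refine vanishes_of_translate hZne fun h hh => ?_
      obtain ⟨w, hw⟩ : ∃ w : N, w * v ≠ v * w := by
        simpa [mem_center_iff] using hvZ
      set c := v⁻¹ * (w * v * w⁻¹) with hc'
      have hcZ : c ∈ center N := by
        rw [← QuotientGroup.eq_one_iff]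
        have := mem_center_iff.mp (mem_comap.mp hv) (QuotientGroup.mk' (center N) w)
        simp only [QuotientGroup.mk'_apply] at this
        rw [hc', QuotientGroup.mk_mul, QuotientGroup.mk_inv, QuotientGroup.mk_mul,
          QuotientGroup.mk_mul, QuotientGroup.mk_inv, this, mul_inv_cancel_right, inv_mul_cancel]
      have hc1 : c ≠ 1 := fun h1 => hw (by
        rw [hc', inv_mul_eq_one] at h1
        exact (eq_mul_inv_iff_mul_eq.mp h1).symm)
      have hconj : ∀ i : ℕ, w ^ i * v * (w ^ i)⁻¹ = v * c ^ i := by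
        intro i
        induction i with
        | zero => simp
        | succ i ih =>
          have e : w * c * w⁻¹ = c := by rw [mem_center_iff.mp hcZ w, mul_inv_cancel_right]
          calc w ^ (i + 1) * v * (w ^ (i + 1))⁻¹
              = w * (w ^ i * v * (w ^ i)⁻¹) * w⁻¹ := by rw [pow_succ']; group
            _ = (w * v * w⁻¹) * (w * c * w⁻¹) ^ i := by rw [ih, conj_pow]; group
            _ = v * c * c ^ i := by rw [e, hc']; group
            _ = _ := by rw [mul_assoc, ← pow_succ']
      have hcz : ((c : N) : X ⧸ R) ∈ Z := mem_map_of_mem _ hcZ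
      have htop := zpowers_eq_top_of_prime_card (p := p) (G := Z) (g := ⟨_, hcz⟩) hZcard
        (fun h1 => hc1 (Subtype.ext (congrArg (fun y : Z => (y : X ⧸ R)) h1 : _)))
      have hmemz : (⟨h, hh⟩ : Z) ∈ Submonoid.powers (⟨_, hcz⟩ : Z) := by
        rw [mem_powers_iff_mem_zpowers, htop]; exact mem_top _
      obtain ⟨i, hi⟩ := hmemz
      refine isConj_iff.mpr ⟨((w ^ i : N) : X ⧸ R), ?_⟩
      have := congrArg (fun y : N => (y : X ⧸ R)) (hconj i)
      simp only [Subgroup.coe_mul, Subgroup.coe_inv] at this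
      rw [this, SubgroupClass.coe_pow, show ((c : N) : X ⧸ R) ^ i = h from by
        simpa using congrArg Subtype.val hi]
    set U₀ := zpowers u ⊔ center N with hU₀
    set U := U₀.map N.subtype with hU
    have hU₀S : U₀ ≤ S := sup_le (zpowers_le.mpr huS) fun z hz => by
      rw [hS, mem_comap, QuotientGroup.mk'_apply, (QuotientGroup.eq_one_iff z).mpr hz]
      exact one_mem _
    have hU₀ab : IsMulCommutative U₀ := by
      rw [← le_centralizer_iff_isMulCommutative]
      have hcen : ∀ s : Subgroup N, center N ≤ centralizer (s : Set N) := fun s =>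
        center_le_centralizer _
      refine sup_le (le_centralizer_iff.mp (sup_le ?_ ?_)) (hcen _)
      · exact le_centralizer_iff_isMulCommutative.mpr inferInstance
      · exact hcen _
    have hUab : IsMulCommutative U := ⟨⟨fun a b => by
      obtain ⟨_, a, ha, rfl⟩ := a
      obtain ⟨_, b, hb, rfl⟩ := b
      exact Subtype.ext (congrArg (fun y : U₀ => ((y : N) : X ⧸ R))
        (mul_comm (⟨a, ha⟩ : U₀) ⟨b, hb⟩))⟩⟩
    have hUv : ∀ x : X, f x ∈ U → f x ≠ 1 → Vanishes x := by
      rintro x ⟨v, hv, hvx⟩ hx1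
      by_cases hvZ : v ∈ center N
      · exact habvan Z hZn hZab hZN x (hvx ▸ mem_map_of_mem _ hvZ) hx1
      · exact Vanishes.lift f hf (hvx ▸ hvS v (hU₀S hv) hvZ)
    have hle := hcard U hUab (map_subtype_le _) hUv
    have hlt : Z < U := by
      refine lt_of_le_of_ne (map_mono le_sup_right) fun h => huZ ?_
      have : center N = U₀ := map_injective N.subtype_injective h
      rw [this]; exact mem_sup_left (mem_zpowers u)
    exact hlt.ne (eq_of_le_of_card_ge hlt.le (hle.trans hZcard.ge))
  have hNZ : Z = N := by rw [hZ, hNab, ← MonoidHom.range_eq_map, range_subtype]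
  have hNcard : Nat.card N = p := hNZ ▸ hZcard
  have : IsCyclic N := isCyclic_of_prime_card hNcard
  let φ : X ⧸ R →* MulAut N := MulAut.conjNormal
  have hkφ : φ.ker ≤ N := fun y hy => hCN (mem_centralizer_iff.mpr fun n hn => by
    have := congrArg Subtype.val (DFunLike.congr_fun (MonoidHom.mem_ker.mp hy) ⟨n, hn⟩)
    have h2 : y * n * y⁻¹ = n := by simpa [φ] using this
    exact (mul_inv_eq_iff_eq_mul.mp h2).symm)
  have h1 : Nat.card (X ⧸ R) ∣ p * (p - 1) := by
    rw [← φ.ker.card_mul_index, index_ker]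
    refine mul_dvd_mul ((card_dvd_of_le hkφ).trans hNcard.dvd) ?_
    refine (φ.range.card_subgroup_dvd_card).trans ?_
    rw [IsCyclic.card_mulAut, hNcard, Nat.totient_prime hp.out]
  rw [← R.card_mul_index, index] at hsq
  have hRp : (Nat.card R).Coprime p := hkf ▸ hR
  have h2 := ((hRp.symm.pow_left 2).dvd_of_dvd_mul_left hsq).trans h1
  rw [pow_two, Nat.mul_dvd_mul_iff_left hp.out.pos] at h2
  have := hp.out.two_le
  have := Nat.le_of_dvd (by omega) h2
  omega

end Cfsg.Agent.H25.OneVanishing
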