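import Cfsg.Agent.H25.OneVanishing.Core

/-!
Sylow subgroups when all vanishing `p`-singular elements have the same order.
-/

namespace Cfsg.Agent.H25.OneVanishing

open Subgroup

variable {G : Type*} [Group G] [Finite G] {p : ℕ} [hp : Fact p.Prime]

theorem rigid_quotient (b : ℕ) (hb : ∀ g : G, Vanishes g → p ∣ orderOf g → orderOf g = b) :
    Rigid p (G ⧸ Cfsg.pCore p G) := by
  classical
  set f := QuotientGroup.mk' (Cfsg.pCore p G) with hf
  have hsurj : Function.Surjective f := QuotientGroup.mk'_surjective _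
  have hdvd : ∀ g : G, f g ≠ 1 → IsPElem p (f g) → p ∣ orderOf g := fun g h1 ⟨k, hk⟩ =>
    dvd_orderOf_of_map f hk h1
  have hlift : ∀ g : G, IsPElem p (f g) → IsPElem p g := by
    rintro g ⟨k, hk⟩
    rw [← map_pow, hf, QuotientGroup.mk'_apply, QuotientGroup.eq_one_iff] at hk
    obtain ⟨j, hj⟩ := Cores.pCore_isPGroup (p := p) (G := G) ⟨_, hk⟩
    refine ⟨k + j, ?_⟩
    have := congrArg Subtype.val hj
    rwa [SubgroupClass.coe_pow, OneMemClass.coe_one, ← pow_mul, ← pow_add] at this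
  constructor
  · intro x hxp hx1 hxv y hyv hyp
    obtain ⟨g, rfl⟩ := hsurj x
    obtain ⟨h, rfl⟩ := hsurj y
    obtain ⟨k, hk⟩ := hlift g hxp
    have hbg := hb g (hxv.lift f hsurj) (hdvd g hx1 hxp)
    have hbh := hb h (hyv.lift f hsurj) (hyp.trans (orderOf_map_dvd f h))
    refine ⟨k, ?_⟩
    rw [← map_pow, orderOf_dvd_iff_pow_eq_one.mp (hbh.trans hbg.symm ▸ orderOf_dvd_of_pow_eq_one hk),
      map_one]
  · intro y hyp hy1 hyv hypv
    obtain ⟨g, rfl⟩ := hsurj y
    have h1 : f g ≠ 1 := fun h => hy1 (by rw [h, one_pow])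
    have hg := hb g (hyv.lift f hsurj) (hdvd g h1 hyp)
    rw [← map_pow] at hy1 hypv
    have hgp := hb (g ^ p) (hypv.lift f hsurj) (hdvd _ hy1 (by
      obtain ⟨k, hk⟩ := hyp
      exact ⟨k, by rw [map_pow, ← pow_mul, mul_comm, pow_mul, hk, one_pow]⟩))
    have hdv := hdvd g h1 hyp
    rw [orderOf_pow, Nat.gcd_eq_right hdv, hg] at hgp
    have hpos : 0 < b := hg ▸ orderOf_pos g
    exact absurd hgp (Nat.div_lt_self hpos hp.out.one_lt).ne

/-- If all vanishing `p`-singular elements of a solvable group have the same order, the Sylow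
subgroup of `G / O_p(G)` has order at most `p`. -/
theorem card_map_sylow_dvd [Group.IsSolvable G] (b : ℕ)
    (hb : ∀ g : G, Vanishes g → p ∣ orderOf g → orderOf g = b) (P : Sylow p G) :
    Nat.card ((P : Subgroup G).map (QuotientGroup.mk' (Cfsg.pCore p G))) ∣ p := by
  have hsurj := QuotientGroup.mk'_surjective (Cfsg.pCore p G)
  have : Group.IsSolvable (G ⧸ Cfsg.pCore p G) := Group.isSolvable_of_surjective hsurj
  have h := not_sq_dvd Cores.pCore_quotient_pCore (rigid_quotient b hb)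
  obtain ⟨k, hk⟩ := IsPGroup.iff_card.mp (P.isPGroup'.map (QuotientGroup.mk' (Cfsg.pCore p G)))
  have hd := card_subgroup_dvd_card ((P : Subgroup G).map (QuotientGroup.mk' (Cfsg.pCore p G)))
  rw [hk] at hd ⊢
  rcases Nat.lt_or_ge k 2 with hk2 | hk2
  · exact (pow_dvd_pow p (by omega : k ≤ 1)).trans (pow_one p).dvd
  · exact absurd ((pow_dvd_pow p hk2).trans hd) h

theorem card_sylow_le [Group.IsSolvable G] (b : ℕ)
    (hb : ∀ g : G, Vanishes g → p ∣ orderOf g → orderOf g = b) (P : Sylow p G) :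
    Nat.card (P : Subgroup G) ≤ p * Nat.card (Cfsg.pCore p G) := by
  have hle : Cfsg.pCore p G ≤ (P : Subgroup G) := Cores.pCore_le_sylow P
  set f := (QuotientGroup.mk' (Cfsg.pCore p G)).comp (P : Subgroup G).subtype with hf
  have hk : Nat.card f.ker = Nat.card (Cfsg.pCore p G) := by
    rw [hf, ← MonoidHom.comap_ker, QuotientGroup.ker_mk']
    exact Nat.card_congr (subgroupOfEquivOfLe hle).toEquiv
  have hr : f.range = (P : Subgroup G).map (QuotientGroup.mk' (Cfsg.pCore p G)) := by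
    rw [hf, MonoidHom.range_comp, range_subtype]
  rw [← f.ker.card_mul_index, index_ker, hr, hk, mul_comm]
  exact Nat.mul_le_mul_right _ (Nat.le_of_dvd hp.out.pos (card_map_sylow_dvd b hb P))

theorem isCyclic_map_sylow [Group.IsSolvable G] (b : ℕ)
    (hb : ∀ g : G, Vanishes g → p ∣ orderOf g → orderOf g = b) (P : Sylow p G) :
    IsCyclic ((P : Subgroup G).map (QuotientGroup.mk' (Cfsg.pCore p G))) :=
  (Nat.dvd_prime hp.out).mp (card_map_sylow_dvd b hb P) |>.elim
    (fun h => haveI := (Nat.card_eq_one_iff_unique.mp h).1; inferInstance)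
    fun h => isCyclic_of_prime_card h

end Cfsg.Agent.H25.OneVanishing
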